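import Cfsg.Agent.H5.HS.Tab
import Cfsg.Agent.H5.Eight
import Cfsg.Agent.H4.LfTrans
import Cfsg.Agent.Ru127.Count

/-!
# `ℒ_f(G, T)` for the Higman–Sims group (helper5)

The elementary abelian normal subgroups `U ∋ z` of a Sylow 2-subgroup `T` of `HS`: `U ≤ V`, `|V| = 4`, or `U = E`, `|E| = 8`;
`C(E)` is a 2-group.
-/

set_option autoImplicit false

namespace Cfsg.Agent.H5.HS.Row

open Cfsg Subgroup Cfsg.Agent.HN Cfsg.Agent.HN.Pres Cfsg.Agent.HN.HS100 Cfsg.Agent.HN.H0Basic Cfsg.Agent.HN.P1408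
open Cfsg.Agent.HN.Classes Cfsg.Agent.KFacts.HS Cfsg.Agent.KFacts.HS.Cent Cfsg.Agent.QTNorm.HSRow Cfsg.Agent.H5.HS.Tab
open Cfsg.Agent.SporadicA.PermTab (lk)
open Equiv (Perm)

variable {L : Type*} [Group L] (D : KFacts.HS.Mod L)

/-- `x` is the element of mask `m` -/
def Msk (x : L) (m : ℕ) : Prop := D.φL x = φ (nf m 11)

variable {D}

theorem Msk.eq {x y : L} {m : ℕ} (hx : Msk D x m) (hy : Msk D y m) : x = y := D.φL_inj (hx.trans hy.symm)

theorem exists_msk {m : ℕ} (h : pm m = false) : ∃ x, Msk D x m := ⟨D.π ⟨nf m 11, (mem_K m).2 h⟩, D.φL_π _⟩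

theorem φ_eq_of_im {m m' : ℕ} (h : ∀ i < 100, im m 11 i = im m' 11 i) : φ (nf m 11) = φ (nf m' 11) :=
  Equiv.ext fun i => Fin.ext (by rw [φ_nf m le_rfl, φ_nf m' le_rfl]; exact h i i.2)

theorem φ_mul_eq {m m' k : ℕ} (h : ∀ i < 100, im m 11 (im m' 11 i) = im k 11 i) :
    φ (nf m 11) * φ (nf m' 11) = φ (nf k 11) :=
  Equiv.ext fun i => Fin.ext (by rw [Equiv.Perm.mul_apply, φ_nf m le_rfl, φ_nf m' le_rfl, φ_nf k le_rfl]; exact h i i.2)

theorem Msk.mul {x y : L} {m m' : ℕ} (hm : m ∈ EL) (hm' : m' ∈ EL) (hx : Msk D x m) (hy : Msk D y m') :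
    Msk D (x * y) (m ^^^ m') := by
  unfold Msk at *
  rw [map_mul, hx, hy]
  exact φ_mul_eq (EL_mul m hm m' hm').2

theorem φ_nf_zero : φ (nf 0 11) = 1 := by
  have h : ∀ n, nf 0 n = 1 := by
    intro n
    induction n with
    | zero => rfl
    | succ n ih => rw [nf, ih, Nat.zero_testBit, cond_false, mul_one]
  rw [h, map_one]

theorem Msk.one : Msk D (1 : L) 0 := by
  unfold Msk
  rw [map_one, φ_nf_zero]

theorem Msk.sq {x : L} {m : ℕ} (hm : m ∈ EL) (hx : Msk D x m) : x * x = 1 := by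
  have h := hx.mul hm hm hx
  rw [Nat.xor_self] at h
  exact h.eq Msk.one

/-- masks may be taken even -/
theorem φ_nf_half (a : ℕ) {n : ℕ} (hn : n ≤ 10) : φ (nf (2 * a + 1) (n + 1)) = φ (nf (2 * a) (n + 1)) := by
  have h0 : φ (Syl.s 0) = 1 := Equiv.ext fun i => Fin.ext (by rw [φ_s (by norm_num)]; exact tb_zero i i.2)
  induction n with
  | zero =>
    rw [nf, nf, nf, nf, map_mul, map_mul]
    congr 1
    have e1 : (2 * a + 1).testBit 0 = true := by simp [Nat.testBit_zero]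
    have e2 : (2 * a).testBit 0 = false := by simp [Nat.testBit_zero]
    rw [e1, e2, cond_true, cond_false, h0, map_one]
  | succ n ih =>
    have e : (2 * a + 1).testBit (n + 1) = (2 * a).testBit (n + 1) := by
      rw [Nat.testBit_succ, Nat.testBit_succ]
      congr 1
      omega
    show φ (nf (2 * a + 1) (n + 1) * (bif (2 * a + 1).testBit (n + 1) then Syl.s (n + 1) else 1)) =
      φ (nf (2 * a) (n + 1) * (bif (2 * a).testBit (n + 1) then Syl.s (n + 1) else 1))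
    rw [map_mul, map_mul, ih (by omega), e]

theorem pm_half (m : ℕ) : pm (2 * (m / 2)) = pm m := by
  have h : ∀ k, (2 * (m / 2)).testBit (k + 1) = m.testBit (k + 1) := by
    intro k
    rw [Nat.testBit_succ, Nat.testBit_succ]
    congr 1
    omega
  unfold pm
  rw [h 7, h 8, h 9]

theorem exists_msk_of_mem {x : L} (hx : x ∈ syT D) : ∃ m < 1024, pm (2 * m) = false ∧ Msk D x (2 * m) := by
  obtain ⟨k, rfl⟩ := D.surj x
  have hk := (mem_syT D).1 hx
  obtain ⟨m, hm, h1⟩ := exists_nf le_rfl (g := (k : H0)) hk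
  have hK : pm m = false := (mem_K m).1 (h1 ▸ k.2)
  refine ⟨m / 2, by omega, by rw [pm_half, hK], ?_⟩
  show D.φL (D.π k) = _
  rw [D.φL_π, h1]
  rcases Nat.mod_two_eq_zero_or_one m with h | h
  · have e : 2 * (m / 2) = m := by omega
    rw [e]
  · have e : m = 2 * (m / 2) + 1 := by omega
    conv_lhs => rw [e]
    exact φ_nf_half _ le_rfl

/-! ### commuting -/

theorem nc_false {g : Perm (Fin 100)} {t t' m p : ℕ} (hp : p < 100) (h1 : ∀ i : Fin 100, ((g i : Fin 100) : ℕ) = lk t i)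
    (h2 : ∀ i : Fin 100, ((g⁻¹ i : Fin 100) : ℕ) = lk t' i)
    (hc : φ (nf m 11) * (g * φ (nf m 11) * g⁻¹) = g * φ (nf m 11) * g⁻¹ * φ (nf m 11)) : nc t t' m p = false := by
  have h := congrArg (fun f : Perm (Fin 100) => ((f ⟨p, hp⟩ : Fin 100) : ℕ)) hc
  simp only [Equiv.Perm.mul_apply, φ_nf m le_rfl, h1, h2] at h
  unfold nc
  rw [h, Nat.beq_refl]
  rfl

theorem ncm_false {g : Perm (Fin 100)} {t m p : ℕ} (hp : p < 100) (h1 : ∀ i : Fin 100, ((g i : Fin 100) : ℕ) = lk t i)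
    (hc : φ (nf m 11) * g = g * φ (nf m 11)) : ncm t m p = false := by
  have h := congrArg (fun f : Perm (Fin 100) => ((f ⟨p, hp⟩ : Fin 100) : ℕ)) hc
  simp only [Equiv.Perm.mul_apply, φ_nf m le_rfl, h1] at h
  unfold ncm
  rw [h, Nat.beq_refl]
  rfl

theorem q2_false {m p : ℕ} (hp : p < 100) (h : φ (nf m 11) * φ (nf m 11) = 1) : q2 m p = false := by
  have h := congrArg (fun f : Perm (Fin 100) => ((f ⟨p, hp⟩ : Fin 100) : ℕ)) h
  simp only [Equiv.Perm.mul_apply, φ_nf m le_rfl, Equiv.Perm.one_apply] at h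
  unfold q2
  rw [h, Nat.beq_refl]
  rfl

theorem inv_val {g : Perm (Fin 100)} {t t' : ℕ} (h1 : ∀ i : Fin 100, ((g i : Fin 100) : ℕ) = lk t i)
    (h2 : ∀ i < 100, lk t (lk t' i) = i ∧ lk t' i < 100) (i : Fin 100) : ((g⁻¹ i : Fin 100) : ℕ) = lk t' i := by
  obtain ⟨h3, h4⟩ := h2 i i.2
  have h5 : g ⟨lk t' i, h4⟩ = i := Fin.ext (by rw [h1]; exact h3)
  have h6 : g⁻¹ i = ⟨lk t' i, h4⟩ := by
    conv_lhs => rw [← h5]
    rw [← Equiv.Perm.mul_apply, inv_mul_cancel, Equiv.Perm.one_apply]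
  rw [h6]

/-- the element `s 4` -/
theorem exists_t4 (D : KFacts.HS.Mod L) : ∃ t ∈ syT D, (∀ i : Fin 100, ((D.φL t i : Fin 100) : ℕ) = lk (tb 4) i) := by
  have hK : Syl.s 4 ∈ K := mem_K_of_par (par_s 4 (by norm_num)).1 (par_s 4 (by norm_num)).2
  refine ⟨D.π ⟨Syl.s 4, hK⟩, (mem_syT D).2 (Syl.s_mem_S (by norm_num)), fun i => ?_⟩
  rw [D.φL_π]
  exact φ_s (by norm_num) i

/-- the element `s 7` -/
theorem exists_t7 (D : KFacts.HS.Mod L) : ∃ t ∈ syT D, (∀ i : Fin 100, ((D.φL t i : Fin 100) : ℕ) = lk (tb 7) i) := by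
  have hK : Syl.s 7 ∈ K := mem_K_of_par (par_s 7 (by norm_num)).1 (par_s 7 (by norm_num)).2
  refine ⟨D.π ⟨Syl.s 7, hK⟩, (mem_syT D).2 (Syl.s_mem_S (by norm_num)), fun i => ?_⟩
  rw [D.φL_π]
  exact φ_s (by norm_num) i

/-- the element `s 9 s 10` -/
theorem exists_t9 (D : KFacts.HS.Mod L) : ∃ t ∈ syT D, (∀ i : Fin 100, ((D.φL t i : Fin 100) : ℕ) = lk t9 i) := by
  have hK : Syl.s 9 * Syl.s 10 ∈ K := by
    rw [mem_K_iff, map_mul, sgn_s (by norm_num), sgn_s (by norm_num)]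
    rfl
  refine ⟨D.π ⟨Syl.s 9 * Syl.s 10, hK⟩, (mem_syT D).2 (mul_mem (Syl.s_mem_S (by norm_num)) (Syl.s_mem_S (by norm_num))),
    fun i => ?_⟩
  rw [D.φL_π]
  show ((φ (Syl.s 9 * Syl.s 10) i : Fin 100) : ℕ) = _
  rw [map_mul, Equiv.Perm.mul_apply, φ_s (by norm_num), φ_s (by norm_num)]
  exact (tab9 i i.2).2.1

/-- **the elements commuting with their conjugates** -/
theorem mem_EL {x : L} (hx : x ∈ syT D) (hsq : x * x = 1)
    (hc : ∀ t ∈ syT D, x * (t * x * t⁻¹) = t * x * t⁻¹ * x) : ∃ m ∈ EL, Msk D x m := by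
  obtain ⟨m, hm, hp, h⟩ := exists_msk_of_mem hx
  have h1 := chk_all m hm
  have hsq' : φ (nf (2 * m) 11) * φ (nf (2 * m) 11) = 1 := by
    have := congrArg D.φL hsq
    rwa [map_mul, map_one, h] at this
  have hco : ∀ t ∈ syT D, φ (nf (2 * m) 11) * (D.φL t * φ (nf (2 * m) 11) * (D.φL t)⁻¹) =
      D.φL t * φ (nf (2 * m) 11) * (D.φL t)⁻¹ * φ (nf (2 * m) 11) := by
    intro t ht
    have h0 := congrArg D.φL (hc t ht)
    have e1 : D.φL (t * x * t⁻¹) = D.φL t * φ (nf (2 * m) 11) * (D.φL t)⁻¹ := by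
      rw [map_mul, map_mul, map_inv, h]
    rwa [map_mul, map_mul _ (t * x * t⁻¹) x, e1, h] at h0
  obtain ⟨t4, ht4, h4⟩ := exists_t4 D
  obtain ⟨t9', ht9, h9⟩ := exists_t9 D
  have e1 := q2_false (p := 0) (by norm_num) hsq'
  have e2 := q2_false (p := 1) (by norm_num) hsq'
  have e3 := nc_false (p := 0) (by norm_num) h4 (inv_val h4 (fun i hi => ⟨tab4 i hi, tab4' i hi⟩)) (hco t4 ht4)
  have e4 := nc_false (p := 0) (by norm_num) h9 (inv_val h9 (fun i hi => ⟨(tab9 i hi).1, (tab9 i hi).2.2⟩)) (hco t9' ht9)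
  unfold chk at h1
  rw [hp, e1, e2, e3, e4] at h1
  simp only [Bool.false_or, Bool.or_false] at h1
  exact ⟨2 * m, by simpa using h1, h⟩

/-- **the centre of the Sylow 2-subgroup** -/
theorem center_eq {x : L} (hx : x ∈ syT D) (hc : ∀ t ∈ syT D, t * x = x * t) : Msk D x 0 ∨ Msk D x 2 := by
  obtain ⟨m, hm, hp, h⟩ := exists_msk_of_mem hx
  have h1 := chk_center m hm
  have hco : ∀ t ∈ syT D, φ (nf (2 * m) 11) * D.φL t = D.φL t * φ (nf (2 * m) 11) := by
    intro t ht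
    have := congrArg D.φL (hc t ht)
    rw [map_mul, map_mul, h] at this
    exact this.symm
  obtain ⟨t7, ht7, h7⟩ := exists_t7 D
  obtain ⟨t9', ht9, h9⟩ := exists_t9 D
  have e1 := ncm_false (p := 0) (by norm_num) h7 (hco t7 ht7)
  have e2 := ncm_false (p := 0) (by norm_num) h9 (hco t9' ht9)
  rw [hp, e1, e2] at h1
  simp only [Bool.false_or, Bool.or_false, List.contains_eq_mem, List.mem_cons, List.not_mem_nil, or_false,
    decide_eq_true_eq] at h1
  rcases h1 with rfl | rfl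
  · exact Or.inl h
  · exact Or.inr h

/-! ### the subgroups `V` and `E` -/

/-- the subgroup of the elements with masks in a list -/
def MS (D : KFacts.HS.Mod L) (l : List ℕ) (h0 : 0 ∈ l) (h1 : ∀ m ∈ l, m ∈ EL) (h2 : ∀ m ∈ l, ∀ m' ∈ l, m ^^^ m' ∈ l) :
    Subgroup L where
  carrier := {x | ∃ m ∈ l, Msk D x m}
  one_mem' := ⟨0, h0, Msk.one⟩
  mul_mem' := by
    rintro x y ⟨m, hm, hx⟩ ⟨m', hm', hy⟩
    exact ⟨_, h2 m hm m' hm', hx.mul (h1 m hm) (h1 m' hm') hy⟩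
  inv_mem' := by
    rintro x ⟨m, hm, hx⟩
    refine ⟨m, hm, ?_⟩
    rwa [inv_eq_of_mul_eq_one_right (hx.sq (h1 m hm))]

/-- `E` -/
def E (D : KFacts.HS.Mod L) : Subgroup L := MS D EL (by decide) (fun m hm => hm) (by decide)

/-- `V` -/
def V (D : KFacts.HS.Mod L) : Subgroup L := MS D [0, 2, 4, 6] (by decide) (by decide) (by decide)

theorem mem_E {x : L} : x ∈ E D ↔ ∃ m ∈ EL, Msk D x m := Iff.rfl
theorem mem_V {x : L} : x ∈ V D ↔ ∃ m ∈ [0, 2, 4, 6], Msk D x m := Iff.rfl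

theorem msk_ne {x : L} {m m' : ℕ} (hm : m ∈ EL) (hm' : m' ∈ EL) (hx : Msk D x m) (hx' : Msk D x m') : m = m' := by
  by_contra hne
  have h : φ (nf m 11) = φ (nf m' 11) := hx.symm.trans hx'
  have h1 : ∀ i : Fin 100, im m 11 i = im m' 11 i := by
    intro i
    rw [← φ_nf m le_rfl, ← φ_nf m' le_rfl, h]
  rcases EL_ne m hm m' hm' hne with h2 | h2 | h2 | h2
  · exact h2 (h1 0)
  · exact h2 (h1 1)
  · exact h2 (h1 2)
  · exact h2 (h1 3)

theorem card_MS {l : List ℕ} (h0 : 0 ∈ l) (h1 : ∀ m ∈ l, m ∈ EL) (h2 : ∀ m ∈ l, ∀ m' ∈ l, m ^^^ m' ∈ l) :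
    Nat.card (MS D l h0 h1 h2) = l.toFinset.card := by
  have hK : ∀ m : {m // m ∈ l.toFinset}, nf m 11 ∈ K := fun m => (mem_K m).2 (EL_par m (h1 m (List.mem_toFinset.1 m.2)))
  let f : {m // m ∈ l.toFinset} → MS D l h0 h1 h2 := fun m =>
    ⟨D.π ⟨nf m 11, hK m⟩, m, List.mem_toFinset.1 m.2, D.φL_π _⟩
  have hf : Function.Bijective f := by
    constructor
    · rintro ⟨m, hm⟩ ⟨m', hm'⟩ h
      have h3 : D.π ⟨nf m 11, hK ⟨m, hm⟩⟩ = D.π ⟨nf m' 11, hK ⟨m', hm'⟩⟩ := congrArg Subtype.val h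
      have e1 : Msk D (D.π ⟨nf m 11, hK ⟨m, hm⟩⟩) m := D.φL_π _
      have e2 : Msk D (D.π ⟨nf m' 11, hK ⟨m', hm'⟩⟩) m' := D.φL_π _
      rw [← h3] at e2
      exact Subtype.ext (msk_ne (h1 m (List.mem_toFinset.1 hm)) (h1 m' (List.mem_toFinset.1 hm')) e1 e2)
    · rintro ⟨x, m, hm, hx⟩
      refine ⟨⟨m, List.mem_toFinset.2 hm⟩, Subtype.ext ?_⟩
      have e1 : Msk D (D.π ⟨nf m 11, hK ⟨m, List.mem_toFinset.2 hm⟩⟩) m := D.φL_π _
      exact e1.eq hx
  rw [← Nat.card_congr (Equiv.ofBijective f hf), Nat.card_eq_fintype_card, Fintype.card_coe]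

theorem card_E : Nat.card (E D) = 8 := by
  rw [E, card_MS]; decide

theorem card_V : Nat.card (V D) = 4 := by
  rw [V, card_MS]; decide

theorem msk_z : Msk D D.z 2 := by
  show D.φL D.z = _
  rw [QTUnique.HS.φL_z]
  refine Equiv.ext fun i => Fin.ext ?_
  rw [φ_nf 2 le_rfl, φ_hw_apply]
  exact z_chk i i.2

/-- **the elementary abelian normal subgroups of the Sylow 2-subgroup** -/
theorem cls (U : Subgroup L) (hUT : U ≤ (syT D : Subgroup L)) (hTU : (syT D : Subgroup L) ≤ normalizer (U : Set L))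
    (hab : ∀ a ∈ U, ∀ b ∈ U, a * b = b * a) (hsq : ∀ a ∈ U, a * a = 1) (hz : D.z ∈ U) : U ≤ V D ∨ U = E D := by
  have hUE : ∀ x ∈ U, ∃ m ∈ EL, Msk D x m := fun x hx => mem_EL (hUT hx) (hsq x hx)
    (fun t ht => hab _ hx _ ((mem_normalizer_iff.1 (hTU ht) x).1 hx))
  by_cases hV : U ≤ V D
  · exact Or.inl hV
  right
  refine le_antisymm hUE ?_
  obtain ⟨u, hu, huV⟩ := SetLike.not_le_iff_exists.1 hV
  obtain ⟨m, hm, hum⟩ := hUE u hu
  have hm' : m ∈ [32, 34, 36, 38] := by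
    by_contra h
    apply huV
    rw [mem_V]
    refine ⟨m, ?_, hum⟩
    have : ∀ m ∈ EL, m ∉ [32, 34, 36, 38] → m ∈ [0, 2, 4, 6] := by decide
    exact this m hm h
  obtain ⟨-, h6, hcj⟩ := EL_conj m hm'
  obtain ⟨t, ht, h9⟩ := exists_t9 D
  have hcu : t * u * t⁻¹ ∈ U := (mem_normalizer_iff.1 (hTU ht) u).1 hu
  have hcm : Msk D (t * u * t⁻¹) (m ^^^ 6) := by
    show D.φL _ = _
    rw [map_mul, map_mul, map_inv, hum]
    refine Equiv.ext fun i => Fin.ext ?_
    rw [Equiv.Perm.mul_apply, Equiv.Perm.mul_apply, h9, φ_nf m le_rfl, φ_nf _ le_rfl,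
      inv_val h9 (fun i hi => ⟨(tab9 i hi).1, (tab9 i hi).2.2⟩)]
    exact hcj i i.2
  -- the masks of the elements of `U`
  have key : ∀ {a b : ℕ}, a ∈ EL → b ∈ EL → (∃ x ∈ U, Msk D x a) → (∃ x ∈ U, Msk D x b) →
      a ^^^ b ∈ EL ∧ ∃ x ∈ U, Msk D x (a ^^^ b) := by
    rintro a b ha hb ⟨x, hx, hxa⟩ ⟨y, hy, hyb⟩
    exact ⟨(EL_mul a ha b hb).1, x * y, mul_mem hx hy, hxa.mul ha hb hyb⟩
  have k2 : ∃ x ∈ U, Msk D x 2 := ⟨_, hz, msk_z⟩
  have km : ∃ x ∈ U, Msk D x m := ⟨_, hu, hum⟩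
  have km6 : ∃ x ∈ U, Msk D x (m ^^^ 6) := ⟨_, hcu, hcm⟩
  have e2 : 2 ∈ EL := by decide
  obtain ⟨-, k6⟩ := key hm h6 km km6
  rw [← Nat.xor_assoc, Nat.xor_self, Nat.zero_xor] at k6
  have e6 : 6 ∈ EL := by decide
  obtain ⟨e4, k4⟩ := key e2 e6 k2 k6
  have k0 : ∃ x ∈ U, Msk D x 0 := ⟨1, one_mem _, Msk.one⟩
  have e0 : 0 ∈ EL := by decide
  obtain ⟨em2, km2⟩ := key hm e2 km k2
  obtain ⟨em4, km4⟩ := key hm e4 km k4
  have hall : ∀ k ∈ EL, ∃ x ∈ U, Msk D x k := by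
    have : ∀ m ∈ [32, 34, 36, 38], ∀ k ∈ EL, k = 0 ∨ k = 2 ∨ k = 2 ^^^ 6 ∨ k = 6 ∨ k = m ∨ k = m ^^^ 2 ∨
        k = m ^^^ (2 ^^^ 6) ∨ k = m ^^^ 6 := by decide
    intro k hk
    rcases this m hm' k hk with rfl | rfl | rfl | rfl | rfl | rfl | rfl | rfl
    · exact k0
    · exact k2
    · exact k4
    · exact k6
    · exact km
    · exact km2
    · exact km4
    · exact km6
  rintro x ⟨k, hk, hx⟩
  obtain ⟨y, hy, hyk⟩ := hall k hk
  rwa [hx.eq hyk]

/-! ### the centralizer of `V` -/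

theorem pwd_chk {l : List ℕ} (hl : ∀ k ∈ l, k < 9) : hw (pwd l) ∈ K ∧
    φ (hw (pwd l)) * φ (hw QTUnique.HS.zw) = φ (hw QTUnique.HS.zw) * φ (hw (pwd l)) := by
  induction l with
  | nil =>
    have e : hw (pwd []) = 1 := hw_nil
    rw [e]
    refine ⟨one_mem _, ?_⟩
    rw [map_one, one_mul, mul_one]
  | cons k l ih =>
    obtain ⟨h1, h2⟩ := ih fun k hk => hl k (List.mem_cons_of_mem _ hk)
    obtain ⟨h3, h4, h5⟩ := cwd_chk k (hl k List.mem_cons_self)
    have e : hw (pwd (k :: l)) = hw (cwd k) * hw (pwd l) := by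
      rw [show pwd (k :: l) = cwd k ++ pwd l from rfl, hw_append]
    have h6 : φ (hw (cwd k)) * φ (hw QTUnique.HS.zw) = φ (hw QTUnique.HS.zw) * φ (hw (cwd k)) := by
      rw [← map_mul, ← map_mul, ← hw_append, ← hw_append]
      exact QTUnique.HS.φ_eq_of h5
    rw [e, map_mul]
    refine ⟨mul_mem (mem_K_of_par h3 h4) h1, ?_⟩
    rw [mul_assoc, h2, ← mul_assoc, h6, mul_assoc]

/-- the element `y` -/
theorem exists_y (D : KFacts.HS.Mod L) : ∃ y ∈ syT D, Msk D y 4 ∧ D.φL y = φ (hw (Syl.sw 2)) := by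
  have hK : Syl.s 2 ∈ K := mem_K_of_par (par_s 2 (by norm_num)).1 (par_s 2 (by norm_num)).2
  refine ⟨D.π ⟨Syl.s 2, hK⟩, (mem_syT D).2 (Syl.s_mem_S (by norm_num)), ?_, ?_⟩
  · show D.φL _ = _
    rw [D.φL_π]
    refine Equiv.ext fun i => Fin.ext ?_
    rw [φ_nf 4 le_rfl, φ_s (by norm_num)]
    exact y_chk i i.2
  · rw [D.φL_π]; rfl

theorem exists_lift {w : List ℕ} (hw' : hw w ∈ K) : ∃ x : L, D.φL x = φ (hw w) := ⟨D.π ⟨_, hw'⟩, D.φL_π _⟩

theorem thirty_le {y : L} (hy : D.φL y = φ (hw (Syl.sw 2))) [Finite L] :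
    30 ≤ Nat.card {x : L // ∃ h ∈ centralizer ({D.z} : Set L), h * y * h⁻¹ = x} := by
  classical
  -- the code of an element
  let cd : L → ℕ := fun x => ((D.φL x 0 : Fin 100) : ℕ) * 128 + ((D.φL x 1 : Fin 100) : ℕ)
  have h1 : ∀ k ∈ codes, ∃ x : {x : L // ∃ h ∈ centralizer ({D.z} : Set L), h * y * h⁻¹ = x}, cd x = k := by
    intro k hk
    rw [← codes_eq, List.mem_map] at hk
    obtain ⟨l, hl, rfl⟩ := hk
    obtain ⟨h2, h3⟩ := pwd_chk (paths_lt l hl)
    obtain ⟨h, hh⟩ := exists_lift (D := D) h2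
    have hcy : D.φL (h * y * h⁻¹) = φ (hw (cjw l)) := by
      rw [map_mul, map_mul, map_inv, hh, hy, cjw, hw_append, hw_append, hw_iw, map_mul, map_mul, map_inv, mul_assoc]
    refine ⟨⟨h * y * h⁻¹, h, ?_, rfl⟩, ?_⟩
    · rw [mem_centralizer_singleton_iff]
      apply D.φL_inj
      rw [map_mul, map_mul, QTUnique.HS.φL_z, hh, h3]
    · show ((D.φL (h * y * h⁻¹) 0 : Fin 100) : ℕ) * 128 + ((D.φL (h * y * h⁻¹) 1 : Fin 100) : ℕ) = _
      rw [hcy, φ_hw_apply, φ_hw_apply]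
      rfl
  have : Nonempty {x : L // ∃ h ∈ centralizer ({D.z} : Set L), h * y * h⁻¹ = x} :=
    ⟨⟨1 * y * 1⁻¹, 1, one_mem _, rfl⟩⟩
  choose! f hf using h1
  have h2 : Function.Injective (fun k : {k // k ∈ codes.toFinset} => f k) := by
    intro a b hab
    have h3 := hf a (List.mem_toFinset.1 a.2)
    have h4 := hf b (List.mem_toFinset.1 b.2)
    have hab' : f a = f b := hab
    rw [hab'] at h3
    exact Subtype.ext (h3.symm.trans h4)
  have h3 := Nat.card_le_card_of_injective _ h2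
  rw [Nat.card_eq_fintype_card (α := {k // k ∈ codes.toFinset}), Fintype.card_coe,
    List.toFinset_card_of_nodup codes_nodup] at h3
  exact h3

/-- `C(z) ∩ C(y)` is a 2-group -/
theorem card_cent {y : L} (hy : D.φL y = φ (hw (Syl.sw 2))) [Finite L] :
    Nat.card (centralizer ({D.z} : Set L) ⊓ centralizer {y} : Subgroup L) = 256 := by
  have hT512 : Nat.card (syT D : Subgroup L) = 512 := by
    have h2 : Fact (Nat.Prime 2) := ⟨Nat.prime_two⟩
    rw [(syT D).card_eq_multiplicity, D.card]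
    have h3 : (44352000 : ℕ) = 2 ^ 9 * 86625 := by norm_num
    rw [h3, Nat.factorization_mul (by norm_num) (by norm_num)]
    simp only [Finsupp.coe_add, Pi.add_apply]
    rw [Nat.Prime.factorization_pow Nat.prime_two, Finsupp.single_eq_same,
      Nat.factorization_eq_zero_of_not_dvd (n := 86625) (by norm_num)]
    rfl
  have h1 := Ru127.Count.card_conj_mul (centralizer ({D.z} : Set L)) y
  rw [D.card_centralizer] at h1
  have h2 := thirty_le hy
  have hle : Nat.card (centralizer ({D.z} : Set L) ⊓ centralizer {y} : Subgroup L) ≤ 256 := by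
    by_contra h
    push Not at h
    have h3 := Nat.mul_le_mul h2 (Nat.succ_le_of_lt h)
    rw [h1] at h3
    norm_num at h3
  -- in `T`
  have hT := Ru127.Count.card_conj_mul (syT D : Subgroup L) y
  rw [hT512] at hT
  have horb : Nat.card {x : L // ∃ h ∈ (syT D : Subgroup L), h * y * h⁻¹ = x} ≤ 2 := by
    classical
    have h3 : ∀ x : {x : L // ∃ h ∈ (syT D : Subgroup L), h * y * h⁻¹ = x}, (x : L) = y ∨ (x : L) = D.z * y := by
      rintro ⟨_, h, hh, rfl⟩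
      have h4 : h * y * h⁻¹ ∈ QTUnique.HS.VL D := by
        refine (mem_normalizer_iff.1 (QTUnique.HS.T_le D hh) y).1 ?_
        show D.φL y ∈ QTUnique.HS.V
        rw [hy]
        exact Or.inr (Or.inr (Or.inl rfl))
      have hzc : h * D.z * h⁻¹ = D.z := by
        rw [syT_comm D hh, mul_inv_cancel_right]
      have h5 : D.φL (h * y * h⁻¹) = 1 ∨ D.φL (h * y * h⁻¹) = φ (hw QTUnique.HS.zw) ∨
          D.φL (h * y * h⁻¹) = φ (hw QTUnique.HS.yw) ∨
          D.φL (h * y * h⁻¹) = φ (hw QTUnique.HS.zw) * φ (hw QTUnique.HS.yw) := h4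
      rcases h5 with h5 | h5 | h5 | h5
      · exfalso
        have h6 : h * y * h⁻¹ = 1 := D.φL_inj (by rw [h5, map_one])
        have h7 : y = 1 := by
          calc y = h⁻¹ * (h * y * h⁻¹) * h := by group
            _ = 1 := by rw [h6]; group
        rw [h7, map_one] at hy
        exact QTUnique.HS.y_ne_one hy.symm
      · exfalso
        have h6 : h * y * h⁻¹ = D.z := D.φL_inj (by rw [h5, QTUnique.HS.φL_z])
        have h7 : y = D.z := by
          calc y = h⁻¹ * (h * y * h⁻¹) * h := by group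
            _ = h⁻¹ * (h * D.z * h⁻¹) * h := by rw [h6, hzc]
            _ = D.z := by group
        rw [h7, QTUnique.HS.φL_z] at hy
        exact QTUnique.HS.y_ne_z hy.symm
      · left
        exact D.φL_inj (h5.trans hy.symm)
      · right
        apply D.φL_inj
        show D.φL (h * y * h⁻¹) = _
        rw [h5, map_mul, QTUnique.HS.φL_z, hy]
        rfl
    have h4 : Function.Injective (fun x : {x : L // ∃ h ∈ (syT D : Subgroup L), h * y * h⁻¹ = x} =>
        decide ((x : L) = y)) := by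
      intro a b hab
      have hab' : ((a : L) = y) ↔ ((b : L) = y) := by simpa using hab
      apply Subtype.ext
      by_cases ha : (a : L) = y
      · rw [ha, hab'.1 ha]
      · have hb : ¬ (b : L) = y := fun h => ha (hab'.2 h)
        rw [(h3 a).resolve_left ha, (h3 b).resolve_left hb]
    have h5 := Nat.card_le_card_of_injective _ h4
    rwa [Nat.card_eq_fintype_card (α := Bool), Fintype.card_bool] at h5
  have h256 : 256 ∣ Nat.card ((syT D : Subgroup L) ⊓ centralizer {y} : Subgroup L) := by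
    set a := Nat.card {x : L // ∃ h ∈ (syT D : Subgroup L), h * y * h⁻¹ = x} with ha
    set b := Nat.card ((syT D : Subgroup L) ⊓ centralizer {y} : Subgroup L) with hb
    clear_value a b
    interval_cases a
    · norm_num at hT
    · exact ⟨2, by omega⟩
    · exact ⟨1, by omega⟩
  have h3 : ((syT D : Subgroup L) ⊓ centralizer {y} : Subgroup L) ≤
      (centralizer ({D.z} : Set L) ⊓ centralizer {y} : Subgroup L) := by
    refine inf_le_inf ?_ le_rfl
    intro x hx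
    exact mem_centralizer_singleton_iff.2 (syT_comm D hx)
  have h4 := h256.trans (card_dvd_of_le h3)
  have h5 := Nat.le_of_dvd Nat.card_pos h4
  omega

theorem cent_E [Finite L] : IsPGroup 2 (centralizer (E D : Set L)) := by
  obtain ⟨y, -, hm, hy⟩ := exists_y D
  have h1 : centralizer (E D : Set L) ≤ (centralizer ({D.z} : Set L) ⊓ centralizer {y} : Subgroup L) := by
    refine le_inf ?_ ?_
    · refine centralizer_le ?_
      rintro _ rfl
      exact ⟨2, by decide, msk_z⟩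
    · refine centralizer_le ?_
      rintro _ rfl
      exact ⟨4, by decide, hm⟩
  exact (IsPGroup.of_card (n := 8) (by rw [card_cent hy]; norm_num)).to_le h1

/-- **the configuration** -/
theorem ctx (D : KFacts.HS.Mod L) [Finite L] : Eight.Ctx (syT D : Subgroup L) D.z (V D) (E D) where
  zz := D.zz
  comm := fun x hx => syT_comm D hx
  cen := by
    intro a ha hc
    rcases center_eq ha hc with h | h
    · exact Or.inl (h.eq Msk.one)
    · exact Or.inr (h.eq msk_z)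
  V4 := card_V.le
  E8 := card_E
  Esq := by
    rintro a ⟨m, hm, ha⟩
    exact ha.sq hm
  cls := cls
  cE := cent_E
  c7 := by rw [D.card_centralizer]; norm_num

/-- the configuration for every Sylow 2-subgroup -/
theorem exists_ctx {G : Type*} [Group G] [Finite G] (h : Spor.IsoHS G) (T : Sylow 2 G) :
    ∃ (z : G) (V E : Subgroup G), Eight.Ctx (T : Subgroup G) z V E := by
  obtain ⟨D⟩ := exists_mod h
  obtain ⟨g, hg⟩ := H4.LfTrans.exists_conj (syT D) T
  rw [hg]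
  exact ⟨_, _, _, (ctx D).conj g⟩

/-- **`HS`: the members of `ℒ_f(G, T)`** -/
theorem row_lf {G : Type*} [Group G] [Finite G] (h : Spor.IsoHS G) (hE : IsOfEvenCharacteristic G) (T : Sylow 2 G)
    {L : Subgroup G} (hL : L ∈ calLf (T : Subgroup G)) :
    (T : Subgroup G) ≤ normalizer (L : Set G) ∧
      Nonempty ((L ⧸ pCore 2 L) ≃* Matrix.ProjectiveSpecialLinearGroup (Fin 3) (ZMod 2)) ∧
      L ∈ calLfMax (T : Subgroup G) := by
  obtain ⟨z, V, E, c⟩ := exists_ctx h T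
  obtain ⟨-, h1, -, h2, h3⟩ := Eight.row_lf c hE hL
  exact ⟨le_sup_right.trans h1, h2, h3⟩

end Cfsg.Agent.H5.HS.Row
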